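import Cfsg.Agent.Lib.Known.F4TwoMult.UpperData

/-!
Checks of the witnesses for the bound on central extensions of `F₄(2)` (owner: helper6).
-/

set_option autoImplicit false
set_option maxRecDepth 100000

namespace CfsgLib.Known.F4TwoMult

open Cfsg.Lie CfsgLib.Lie.Chev

/-- the roots with an odd coefficient in the commutator formula -/
def oddTerms (r s : ℕ) : List ℕ :=
  ((chevF4.commTerms r s).filter fun e => decide (e.2.1 % 2 ≠ 0)).map Prod.fst

/-- two roots in range whose commutator has the given terms -/
def isPair (r s : ℕ) (l : List ℕ) : Bool :=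
  Nat.blt r 48 && Nat.blt s 48 && !Nat.beq r s && !Nat.beq s (chevF4.neg r) && oddTerms r s == l

/-- two roots in range whose elements commute -/
def comB (r s : ℕ) : Bool := (Nat.beq r s && Nat.blt r 48) || isPair r s []

/-- the pair of a root in the table -/
def bp (g : ℕ) : ℕ × ℕ := basePair.getD g (0, 0)

/-- one witness by a single commutator -/
def oneB (e : ℕ × ℕ × ℕ × ℕ) : Bool := isPair e.2.2.1 e.2.2.2 [e.2.1] && comB e.1 e.2.2.1 && comB e.1 e.2.2.2

/-- pairs of the first list -/
def inOne (r s : ℕ) : Bool :=
  Nat.beq r s || byOne.any fun e => (Nat.beq e.1 r && Nat.beq e.2.1 s) || (Nat.beq e.1 s && Nat.beq e.2.1 r)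

/-- one witness by two terms -/
def twoB (e : ℕ × ℕ × ℕ × ℕ × ℕ) : Bool :=
  (isPair e.2.2.1 e.2.2.2.1 [e.2.1, e.2.2.2.2] || isPair e.2.2.1 e.2.2.2.1 [e.2.2.2.2, e.2.1]) &&
    comB e.1 e.2.2.1 && comB e.1 e.2.2.2.1 && inOne e.1 e.2.2.2.2 && Nat.blt e.2.2.2.2 48

/-- pairs of the second list -/
def inTwo (r s : ℕ) : Bool :=
  byTwo.any fun e => (Nat.beq e.1 r && Nat.beq e.2.1 s) || (Nat.beq e.1 s && Nat.beq e.2.1 r)

/-- one step between pairs with the same sum -/
def moveB (e : ℕ × ℕ × ℕ × ℕ × ℕ × ℕ) : Bool :=
  match e with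
  | (g, p, q, p', q', d) =>
    isPair p q [g] && isPair p' q' [g] &&
      ((Nat.beq d 48 && Nat.beq p' q && Nat.beq q' p) ||
        (isPair p d [p'] && isPair d q' [q] && comB p q' && comB p' q && comB q g) ||
        (isPair p' d [p] && isPair d q [q'] && comB p' q && comB p q' && comB q' g))

/-- the pairs reached -/
def known (g : ℕ) (n : ℕ) : List (ℕ × ℕ) :=
  bp g :: ((moves.take n).filter fun e => Nat.beq e.1 g).map fun e => (e.2.2.2.1, e.2.2.2.2.1)

/-- the pairs with two terms reached -/
def twoKnown (n : ℕ) : List (ℕ × ℕ) := twoBase :: (twoSteps.take n).map fun e => (e.2.2.1, e.2.2.2)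

/-- one step of the search through pairs with two terms -/
def stepB (e : ℕ × ℕ × ℕ × ℕ) : Bool :=
  match e, (twoKnown twoSteps.length).getD e.1 twoBase with
  | (_, i, r', s'), (r, s) =>
    Nat.beq (oddTerms r s).length 2 && Nat.beq (oddTerms r' s').length 2 && isPair r s (oddTerms r s) &&
      isPair r' s' (oddTerms r' s') &&
      ((Nat.blt i 4 && Nat.beq r' (auxF4.w i r) && Nat.beq s' (auxF4.w i s) &&
          (oddTerms r' s' == (oddTerms r s).map (auxF4.w i) || (oddTerms r' s').reverse == (oddTerms r s).map (auxF4.w i))) ||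
        (Nat.beq i 4 && Nat.beq r' s && Nat.beq s' r &&
          (oddTerms r' s' == oddTerms r s || (oddTerms r' s').reverse == oddTerms r s)))

theorem one_ok : byOne.all oneB = true := by decide +kernel

theorem two_ok : byTwo.all twoB = true := by decide +kernel

theorem com_covered : ((List.range 48).all fun r => (List.range 48).all fun s =>
    !comB r s || inOne r s || inTwo r s) = true := by decide +kernel

theorem base_ok : ((List.range 48).all fun g => isPair (bp g).1 (bp g).2 [g] && comB g (bp g).2 &&
    (List.range 4).all fun i => isPair (auxF4.w i (bp g).1) (auxF4.w i (bp g).2) [auxF4.w i g]) = true := by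
  decide +kernel

theorem moves_ok : (moves.zipIdx.all fun e => moveB e.1 && (known e.1.1 e.2).contains (e.1.2.1, e.1.2.2.1)) = true := by
  decide +kernel

theorem single_covered : ((List.range 48).all fun r => (List.range 48).all fun s =>
    Nat.beq r s || Nat.beq s (chevF4.neg r) ||
      match oddTerms r s with
      | [] => comB r s
      | [g] => Nat.blt g 48 && (known g moves.length).contains (r, s)
      | [u, v] => (twoKnown twoSteps.length).contains (r, s) && comB u v && Nat.blt u 48 && Nat.blt v 48
      | _ => false) = true := by decide +kernel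

theorem steps_ok : (twoSteps.zipIdx.all fun e => stepB e.1 && Nat.blt e.1.1 (e.2 + 1)) = true := by decide +kernel

theorem two_base : (isPair twoBase.1 twoBase.2 (oddTerms twoBase.1 twoBase.2) &&
    match oddTerms twoBase.1 twoBase.2 with
    | [u, v] => comB u v && comB twoBase.2 u && comB twoBase.2 v
    | _ => false) = true := by decide +kernel

end CfsgLib.Known.F4TwoMult
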