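import Cfsg.Agent.Lib.Known.UnivTorusData
import Cfsg.Agent.Lib.Known.UnivTorusMult
import Cfsg.Agent.Lib.Known.UnivSplit
import Cfsg.Agent.Lib.Known.F4TwoMult.UpperChecks

/-!
# Stem extensions of `F₄(2)` have kernel of order at most two (owner: helper6)

Lifts of commuting root elements commute: one of the two is, up to lifts already known to commute with the other,
a commutator of root elements commuting with it. So every root has a canonical lift, the commutator of lifts of
a pair summing to it. The one remaining value is the defect of a relation with two terms, and it squares to one.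
-/

set_option autoImplicit false
set_option maxRecDepth 20000

namespace CfsgLib.Known.F4TwoMult

open Cfsg.Lie
open CfsgLib.Lie.Chev
open CfsgLib.Known.Univ
open scoped commutatorElement

universe u v

theorem two_eq_zero {K : Type u} [Field K] [Fintype K] (hK : Fintype.card K = 2) : (2 : K) = 0 := by
  have := Nat.cast_card_eq_zero K
  rw [hK] at this
  exact_mod_cast this

theorem zero_or_one {K : Type u} [Field K] [Fintype K] (hK : Fintype.card K = 2) (x : K) : x = 0 ∨ x = 1 := by
  by_cases h : x = 0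
  · exact Or.inl h
  · right
    have := FiniteField.pow_card_sub_one_eq_one x h
    rwa [hK, pow_one] at this

theorem isPair_spec {r s : ℕ} {l : List ℕ} (h : isPair r s l = true) :
    r < 48 ∧ s < 48 ∧ s ≠ r ∧ s ≠ chevF4.neg r ∧ oddTerms r s = l := by
  simp only [isPair, Bool.and_eq_true, Bool.not_eq_true', beq_iff_eq] at h
  obtain ⟨⟨⟨⟨h1, h2⟩, h3⟩, h4⟩, h5⟩ := h
  refine ⟨nat_blt_iff.1 h1, nat_blt_iff.1 h2, ?_, ?_, h5⟩
  · rintro rfl; rw [Nat.beq_refl] at h3; exact Bool.noConfusion h3
  · rintro e; rw [← e, Nat.beq_refl] at h4; exact Bool.noConfusion h4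

section Sect

variable {K : Type u} [Field K] [Fintype K] (hK : Fintype.card K = 2)
variable {G E : Type u} [Group G] [Group E] (S : CentExt chevF4 auxF4 K G E)

/-- a root element -/
noncomputable def x (r : ℕ) : G := S.R.xe r 1

/-- a lift of a root element -/
noncomputable def a (r : ℕ) : E := lf S r 1

theorem π_a (r : ℕ) : S.π (a S r) = x S r := π_lf S r 1

theorem x_zero {r : ℕ} (hr : r < 48) : S.R.xe r 0 = 1 := by
  have h := S.R.xe_add r 0 0 hr
  rw [add_zero] at h
  exact mul_eq_left.1 h

include hK in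
theorem x_sq {r : ℕ} (hr : r < 48) : x S r * x S r = 1 := by
  rw [x, S.R.xe_add r 1 1 hr, one_add_one_eq_two, two_eq_zero hK, x_zero S hr]

include hK in
theorem rel {r s : ℕ} {l : List ℕ} (h : isPair r s l = true) :
    x S s * x S r = x S r * x S s * (l.map (x S)).prod := by
  obtain ⟨hr, hs, h1, h2, rfl⟩ := isPair_spec h
  rw [x, x, S.R.xe_comm r s 1 1 hr hs h1 h2]
  congr 1
  have hlt : ∀ e ∈ chevF4.commTerms r s, e.1 < 48 := fun e he => (S.R.cert.commTerms_props hr hs e he).1
  have h2' := two_eq_zero hK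
  rw [ChevalleyDatum.commWord, oddTerms]
  revert hlt
  induction chevF4.commTerms r s with
  | nil => intro _; rfl
  | cons e L ih =>
    intro hlt
    have ih' := ih fun y hy => hlt y (List.mem_cons_of_mem _ hy)
    simp only [List.map_cons, List.prod_cons, show (-1 : K) = 1 by linear_combination -h2', one_pow, mul_one] at ih' ⊢
    rw [ih']
    rcases Int.emod_two_eq_zero_or_one e.2.1 with ho | ho
    · rw [show (e.2.1 : K) = 0 by
        rw [show e.2.1 = 2 * (e.2.1 / 2) by omega, Int.cast_mul, Int.cast_ofNat, h2', zero_mul],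
        x_zero S (hlt e List.mem_cons_self), List.filter_cons_of_neg (by simp [ho]), one_mul]
    · rw [show (e.2.1 : K) = 1 by
        rw [show e.2.1 = 2 * (e.2.1 / 2) + 1 by omega, Int.cast_add, Int.cast_mul, Int.cast_ofNat, h2', zero_mul,
          zero_add, Int.cast_one],
        List.filter_cons_of_pos (by simp [ho]), List.map_cons, List.map_cons, List.prod_cons]
      rfl

include hK in
theorem x_comm {r s : ℕ} (h : comB r s = true) : Commute (x S r) (x S s) := by
  simp only [comB, Bool.or_eq_true, Bool.and_eq_true] at h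
  rcases h with ⟨h, -⟩ | h
  · rw [Nat.eq_of_beq_eq_true h]
  · have := rel hK S h
    rw [List.map_nil, List.prod_nil, mul_one] at this
    exact this.symm

theorem comB_lt {r s : ℕ} (h : comB r s = true) : r < 48 ∧ s < 48 := by
  simp only [comB, Bool.or_eq_true, Bool.and_eq_true] at h
  rcases h with ⟨h, h'⟩ | h
  · exact ⟨nat_blt_iff.1 h', Nat.eq_of_beq_eq_true h ▸ nat_blt_iff.1 h'⟩
  · exact ⟨(isPair_spec h).1, (isPair_spec h).2.1⟩

include hK in
/-- the image of the commutator of lifts -/
theorem π_comm {r s : ℕ} {l : List ℕ} (h : isPair r s l = true) {c d : E} (hc : S.π c = x S r) (hd : S.π d = x S s) :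
    S.π ⁅d, c⁆ = (l.map (x S)).prod := by
  obtain ⟨hr, hs, -⟩ := isPair_spec h
  rw [map_commutatorElement, hc, hd, commutatorElement_def, inv_eq_of_mul_eq_one_right (x_sq hK S hr),
    inv_eq_of_mul_eq_one_right (x_sq hK S hs)]
  have e : (x S r * x S s)⁻¹ * (x S s * x S r) = (l.map (x S)).prod := by
    rw [rel hK S h, inv_mul_cancel_left]
  rw [← e, mul_inv_rev, inv_eq_of_mul_eq_one_right (x_sq hK S hr), inv_eq_of_mul_eq_one_right (x_sq hK S hs)]
  simp only [mul_assoc]

/-- lifts of elements which commute with both arguments commute with a commutator -/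
theorem commute_comm {e c d : E} (hc : Commute (S.π e) (S.π c)) (hd : Commute (S.π e) (S.π d)) :
    Commute e ⁅c, d⁆ := by
  have key : ∀ y, Commute (S.π e) (S.π y) → S.π (e * y * e⁻¹) = S.π y := fun y hy => by
    rw [map_mul, map_mul, map_inv, hy.eq, mul_inv_cancel_right]
  have h : e * ⁅c, d⁆ * e⁻¹ = ⁅c, d⁆ := by
    have e1 : e * ⁅c, d⁆ * e⁻¹ = ⁅e * c * e⁻¹, e * d * e⁻¹⁆ := by
      simp only [commutatorElement_def]; group
    rw [e1]
    exact comm_congr S (key c hc) (key d hd)
  exact mul_inv_eq_iff_eq_mul.1 h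

theorem lift_central {c d : E} (h : S.π c = S.π d) : c⁻¹ * d ∈ Subgroup.center E :=
  S.central (by rw [MonoidHom.mem_ker, map_mul, map_inv, h, inv_mul_cancel])

theorem commute_congr {e c d : E} (h : S.π c = S.π d) (hc : Commute e c) : Commute e d := by
  have hz : Commute e (c⁻¹ * d) := Subgroup.mem_center_iff.1 (lift_central S h) e
  simpa using hc.mul_right hz

include hK in
theorem one_commute {r s : ℕ} (hr : r < 48) (h : inOne r s = true) : Commute (a S r) (a S s) := by
  simp only [inOne, Bool.or_eq_true, List.any_eq_true, Bool.and_eq_true] at h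
  rcases h with h | ⟨e, he, h⟩
  · rw [Nat.eq_of_beq_eq_true h]
  have he' := List.all_eq_true.1 one_ok e he
  simp only [oneB, Bool.and_eq_true] at he'
  obtain ⟨⟨hp, h1⟩, h2⟩ := he'
  have key : Commute (a S e.1) (a S e.2.1) := by
    refine commute_congr S ?_ (commute_comm S (c := a S e.2.2.2) (d := a S e.2.2.1) ?_ ?_)
    · rw [π_comm hK S hp (π_a S _) (π_a S _), π_a]; simp
    · rw [π_a, π_a]; exact x_comm hK S h2
    · rw [π_a, π_a]; exact x_comm hK S h1
  rcases h with ⟨h1, h2⟩ | ⟨h1, h2⟩ <;> rw [← Nat.eq_of_beq_eq_true h1, ← Nat.eq_of_beq_eq_true h2]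
  exacts [key, key.symm]

include hK in
theorem two_commute {r s : ℕ} (h : inTwo r s = true) : Commute (a S r) (a S s) := by
  simp only [inTwo, List.any_eq_true, Bool.or_eq_true, Bool.and_eq_true] at h
  obtain ⟨e, he, h⟩ := h
  have he' := List.all_eq_true.1 two_ok e he
  simp only [twoB, Bool.and_eq_true] at he'
  obtain ⟨⟨⟨⟨hp, h1⟩, h2⟩, h3⟩, -⟩ := he'
  have hc : Commute (a S e.1) ⁅a S e.2.2.2.1, a S e.2.2.1⁆ :=
    commute_comm S (by rw [π_a, π_a]; exact x_comm hK S h2) (by rw [π_a, π_a]; exact x_comm hK S h1)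
  have ho := one_commute hK S (comB_lt h1).1 h3
  have key : Commute (a S e.1) (a S e.2.1) := by
    simp only [Bool.or_eq_true] at hp
    rcases hp with hp | hp
    · refine commute_congr S ?_ (hc.mul_right ho.inv_right)
      rw [map_mul, map_inv, π_comm hK S hp (π_a S _) (π_a S _), π_a, π_a]; simp
    · refine commute_congr S ?_ (ho.inv_right.mul_right hc)
      rw [map_mul, map_inv, π_comm hK S hp (π_a S _) (π_a S _), π_a, π_a]; simp
  rcases h with ⟨h1, h2⟩ | ⟨h1, h2⟩ <;> rw [← Nat.eq_of_beq_eq_true h1, ← Nat.eq_of_beq_eq_true h2]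
  exacts [key, key.symm]

include hK in
/-- lifts of commuting root elements commute -/
theorem lifts_comm {r s : ℕ} (h : comB r s = true) {c d : E} (hc : S.π c = x S r) (hd : S.π d = x S s) :
    Commute c d := by
  obtain ⟨hr, hs⟩ := comB_lt h
  have h' := List.all_eq_true.1 (List.all_eq_true.1 com_covered r (List.mem_range.2 hr)) s (List.mem_range.2 hs)
  simp only [h, Bool.not_true, Bool.false_or, Bool.or_eq_true] at h'
  have key : Commute (a S r) (a S s) := h'.elim (one_commute hK S hr) (two_commute hK S)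
  exact (commute_congr S ((π_a S r).trans hc.symm) (commute_congr S ((π_a S s).trans hd.symm) key).symm).symm

/-- the canonical lift -/
noncomputable def F (g : ℕ) : E := ⁅a S (bp g).2, a S (bp g).1⁆

theorem base_spec {g : ℕ} (hg : g < 48) : isPair (bp g).1 (bp g).2 [g] = true ∧ comB g (bp g).2 = true ∧
    ∀ i < 4, isPair (auxF4.w i (bp g).1) (auxF4.w i (bp g).2) [auxF4.w i g] = true := by
  have h := List.all_eq_true.1 base_ok g (List.mem_range.2 hg)
  simp only [Bool.and_eq_true, List.all_eq_true, List.mem_range] at h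
  exact ⟨h.1.1, h.1.2, h.2⟩

include hK in
theorem π_F {g : ℕ} (hg : g < 48) : S.π (F S g) = x S g := by
  rw [F, π_comm hK S (base_spec hg).1 (π_a S _) (π_a S _)]; simp

include hK in
theorem F_sq {g : ℕ} (hg : g < 48) : F S g * F S g = 1 := by
  obtain ⟨hp, hq, -⟩ := base_spec hg
  have hc : Commute (F S g) (a S (bp g).2) := lifts_comm hK S hq (π_F hK S hg) (π_a S _)
  have h2 : a S (bp g).2 * a S (bp g).2 ∈ Subgroup.center E :=
    S.central (by rw [MonoidHom.mem_ker, map_mul, π_a, x_sq hK S (isPair_spec hp).2.1])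
  have h3 : ⁅a S (bp g).2 * a S (bp g).2, a S (bp g).1⁆ = 1 :=
    commutatorElement_eq_one_iff_mul_comm.2 (Subgroup.mem_center_iff.1 h2 _).symm
  have e : ⁅a S (bp g).2 * a S (bp g).2, a S (bp g).1⁆ = a S (bp g).2 * F S g * (a S (bp g).2)⁻¹ * F S g := by
    rw [F, commutatorElement_def, commutatorElement_def]; group
  rw [e, ← hc.eq, mul_inv_cancel_right] at h3
  exact h3

include hK in
theorem known_comm : ∀ n, ∀ g < 48, ∀ p q, (p, q) ∈ known g n → isPair p q [g] = true → ⁅a S q, a S p⁆ = F S g := by
  intro n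
  induction n with
  | zero =>
    intro g _ p q h _
    simp only [known, List.take_zero, List.filter_nil, List.map_nil, List.mem_singleton] at h
    rw [F, ← h]
  | succ n ih =>
    intro g hg p q h hpq
    rcases Nat.lt_or_ge n moves.length with hn | hn
    swap
    · refine ih g hg p q ?_ hpq
      rwa [known, List.take_of_length_le (by omega), ← List.take_of_length_le hn] at h
    simp only [known, List.take_succ_eq_append_getElem hn, List.filter_append, List.map_append, List.mem_cons,
      List.mem_append] at h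
    rcases h with h | h | h
    · exact ih g hg p q (by simp [known, h]) hpq
    · exact ih g hg p q (List.mem_cons_of_mem _ h) hpq
    · have hm := List.all_eq_true.1 moves_ok (moves[n], n) (List.mk_mem_zipIdx_iff_getElem?.2 (List.getElem?_eq_getElem hn))
      revert h hm
      generalize moves[n] = e
      obtain ⟨g', p0, q0, p1, q1, δ⟩ := e
      intro h hm
      simp only [List.mem_map, List.mem_filter, List.mem_singleton] at h
      obtain ⟨e', ⟨rfl, hgg⟩, he⟩ := h
      simp only [Prod.mk.injEq] at he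
      obtain ⟨rfl, rfl⟩ := he
      have hgg' : g' = g := Nat.eq_of_beq_eq_true hgg
      subst hgg'
      simp only [Bool.and_eq_true, List.contains_iff_mem, moveB] at hm
      obtain ⟨⟨⟨hp0, hp1⟩, hmv⟩, hk⟩ := hm
      have h0 := ih g' hg p0 q0 hk hp0
      simp only [Bool.or_eq_true, Bool.and_eq_true] at hmv
      have move : ∀ P Q P' Q' d, isPair P Q [g'] = true → isPair P' Q' [g'] = true → isPair P d [P'] = true →
          isPair d Q' [Q] = true → comB P Q' = true → comB P' Q = true → comB Q g' = true →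
          ⁅a S Q, a S P⁆ = ⁅a S Q', a S P'⁆ := by
        intro P Q P' Q' d hPQ hPQ' h1 h2 h3 h4 h5
        -- conjugate a commutator which is a lift of `Q`
        set u := a S P
        set v := a S Q'
        set w := a S d
        have hq : S.π ⁅v, w⁆ = x S Q := by rw [π_comm hK S h2 (π_a S _) (π_a S _)]; simp
        have hp : S.π ⁅u, w⁆ = x S P' := by
          rw [← commutatorElement_inv w u, map_inv, π_comm hK S h1 (π_a S _) (π_a S _)]
          simp only [List.map_cons, List.map_nil, List.prod_cons, List.prod_nil, mul_one]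
          exact inv_eq_of_mul_eq_one_right (x_sq hK S (isPair_spec hPQ').1)
        have c1 : Commute u v := lifts_comm hK S h3 (π_a S _) (π_a S _)
        have c2 : Commute ⁅u, w⁆ ⁅v, w⁆ := lifts_comm hK S h4 hp hq
        have hg' : S.π ⁅v, ⁅u, w⁆⁆ = x S g' := by rw [π_comm hK S hPQ' hp (π_a S _)]; simp
        have c3 : Commute ⁅v, w⁆ ⁅v, ⁅u, w⁆⁆ := lifts_comm hK S h5 hq hg'
        have e1 : u * ⁅v, w⁆ * u⁻¹ = ⁅v, ⁅u, w⁆⁆ * ⁅v, w⁆ := by
          have e0 : u * ⁅v, w⁆ * u⁻¹ = ⁅u * v * u⁻¹, u * w * u⁻¹⁆ := by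
            simp only [commutatorElement_def]; group
          rw [e0, c1.eq, mul_inv_cancel_right, show u * w * u⁻¹ = ⁅u, w⁆ * w by rw [commutatorElement_def]; group,
            show ⁅v, ⁅u, w⁆ * w⁆ = ⁅v, ⁅u, w⁆⁆ * (⁅u, w⁆ * ⁅v, w⁆ * ⁅u, w⁆⁻¹) by
              simp only [commutatorElement_def]; group,
            c2.eq, mul_inv_cancel_right]
        have e2 : ⁅u, ⁅v, w⁆⁆ = ⁅v, ⁅u, w⁆⁆ := by
          have e3 : ⁅u, ⁅v, w⁆⁆ = u * ⁅v, w⁆ * u⁻¹ * ⁅v, w⁆⁻¹ := rfl
          rw [e3, e1, mul_inv_cancel_right]
        have e4 : ⁅a S Q, u⁆ = ⁅⁅v, w⁆, u⁆ := comm_congr S ((π_a S _).trans hq.symm) rfl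
        have e5 : ⁅a S Q', a S P'⁆ = ⁅v, ⁅u, w⁆⁆ := comm_congr S rfl ((π_a S _).trans hp.symm)
        rw [e4, e5, ← commutatorElement_inv u ⁅v, w⁆, e2]
        have hsq : ⁅v, ⁅u, w⁆⁆ * ⁅v, ⁅u, w⁆⁆ = 1 := by
          have hx : Commute ⁅v, ⁅u, w⁆⁆ ⁅v, w⁆ := c3.symm
          have h2c : ⁅v, w⁆ * ⁅v, w⁆ ∈ Subgroup.center E :=
            S.central (by rw [MonoidHom.mem_ker, map_mul, hq, x_sq hK S (isPair_spec hPQ).2.1])
          have h6 : ⁅⁅v, w⁆ * ⁅v, w⁆, u⁆ = 1 :=
            commutatorElement_eq_one_iff_mul_comm.2 (Subgroup.mem_center_iff.1 h2c u).symm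
          have e6 : ⁅⁅v, w⁆ * ⁅v, w⁆, u⁆ = ⁅v, w⁆ * ⁅⁅v, w⁆, u⁆ * ⁅v, w⁆⁻¹ * ⁅⁅v, w⁆, u⁆ := by
            simp only [commutatorElement_def]; group
          rw [e6, ← commutatorElement_inv u ⁅v, w⁆, e2, ← hx.inv_left.eq, mul_inv_cancel_right, ← mul_inv_rev,
            inv_eq_one] at h6
          exact h6
        exact inv_eq_of_mul_eq_one_right hsq
      rcases hmv with (⟨⟨hd, hpq'⟩, hqp⟩ | ⟨⟨⟨⟨h1, h2⟩, h3⟩, h4⟩, h5⟩) | ⟨⟨⟨⟨h1, h2⟩, h3⟩, h4⟩, h5⟩
      · obtain rfl := Nat.eq_of_beq_eq_true hpq'
        obtain rfl := Nat.eq_of_beq_eq_true hqp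
        rw [← commutatorElement_inv, h0]
        exact inv_eq_of_mul_eq_one_right (F_sq hK S hg)
      · rw [← h0, move _ _ _ _ _ hp0 hp1 h1 h2 h3 h4 h5]
      · rw [← h0, move _ _ _ _ _ hp1 hp0 h1 h2 h3 h4 h5]

include hK in
theorem single {r s g : ℕ} (h : isPair r s [g] = true) : ⁅F S s, F S r⁆ = F S g := by
  obtain ⟨hr, hs, h1, h2, e⟩ := isPair_spec h
  have h' := List.all_eq_true.1 (List.all_eq_true.1 single_covered r (List.mem_range.2 hr)) s (List.mem_range.2 hs)
  simp only [e, Bool.or_eq_true, Bool.and_eq_true, List.contains_iff_mem] at h'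
  rcases h' with (h' | h') | ⟨hg, hk⟩
  · exact absurd (Nat.eq_of_beq_eq_true h').symm h1
  · exact absurd (Nat.eq_of_beq_eq_true h') h2
  · rw [← known_comm hK S _ g (nat_blt_iff.1 hg) r s hk h]
    exact comm_congr S ((π_F hK S hs).trans (π_a S s).symm) ((π_F hK S hr).trans (π_a S r).symm)

/-- the defect of a pair -/
noncomputable def defect (r s : ℕ) : E := ((oddTerms r s).map (F S)).prod⁻¹ * ⁅F S s, F S r⁆

theorem two_spec {r s : ℕ} (h : isPair r s (oddTerms r s) = true) (h2 : (oddTerms r s).length = 2) :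
    ∃ u v, oddTerms r s = [u, v] ∧ comB u v = true ∧ u < 48 ∧ v < 48 ∧ (r, s) ∈ twoKnown twoSteps.length := by
  obtain ⟨hr, hs, h1, h1', -⟩ := isPair_spec h
  have h' := List.all_eq_true.1 (List.all_eq_true.1 single_covered r (List.mem_range.2 hr)) s (List.mem_range.2 hs)
  obtain ⟨u, v, e⟩ := List.length_eq_two.1 h2
  refine ⟨u, v, e, ?_⟩
  simp only [e, Bool.or_eq_true, Bool.and_eq_true, List.contains_iff_mem] at h'
  rcases h' with (h' | h') | ⟨⟨⟨hk, hc⟩, hu⟩, hv⟩
  · exact absurd (Nat.eq_of_beq_eq_true h').symm h1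
  · exact absurd (Nat.eq_of_beq_eq_true h') h1'
  · exact ⟨hc, nat_blt_iff.1 hu, nat_blt_iff.1 hv, hk⟩

include hK in
theorem defect_ker {r s : ℕ} {l : List ℕ} (h : isPair r s l = true) (hl : ∀ y ∈ l, y < 48) :
    defect S r s ∈ S.π.ker := by
  obtain ⟨hr, hs, -, -, e⟩ := isPair_spec h
  rw [MonoidHom.mem_ker, defect, e, map_mul, map_inv, map_list_prod, List.map_map,
    π_comm hK S h (π_F hK S hr) (π_F hK S hs),
    show l.map (S.π ∘ F S) = l.map (x S) from List.map_congr_left fun y hy => π_F hK S (hl y hy),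
    inv_mul_cancel]

/-- the one remaining value -/
noncomputable def gen : E := defect S twoBase.1 twoBase.2

include hK in
theorem gen_ker : gen S ∈ S.π.ker := by
  have h := two_base
  rw [Bool.and_eq_true] at h
  obtain ⟨hr, hs, -, -, -⟩ := isPair_spec h.1
  exact defect_ker hK S h.1 fun y hy => by
    rw [oddTerms, List.mem_map] at hy
    obtain ⟨e, he, rfl⟩ := hy
    exact (S.R.cert.commTerms_props hr hs e (List.mem_filter.1 he).1).1

include hK in
theorem gen_sq : gen S * gen S = 1 := by
  have hb := two_base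
  rw [Bool.and_eq_true] at hb
  obtain ⟨hp, hm⟩ := hb
  obtain ⟨hr, hs, -⟩ := isPair_spec hp
  have hlen : ∃ u v, oddTerms twoBase.1 twoBase.2 = [u, v] ∧ comB u v = true ∧ comB twoBase.2 u = true ∧
      comB twoBase.2 v = true := by
    revert hm
    rcases oddTerms twoBase.1 twoBase.2 with - | ⟨u, - | ⟨v, - | ⟨w, l⟩⟩⟩ <;> intro hm <;> simp at hm
    exact ⟨u, v, rfl, hm.1.1, hm.1.2, hm.2⟩
  obtain ⟨u, v, e, huv, hu, hv⟩ := hlen
  have hu' := (comB_lt huv).1
  have hv' := (comB_lt huv).2
  have hz := Subgroup.mem_center_iff.1 (S.central (gen_ker hK S))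
  have hX : ⁅F S twoBase.2, F S twoBase.1⁆ = F S u * F S v * gen S := by
    rw [gen, defect, e]; simp only [List.map_cons, List.map_nil, List.prod_cons, List.prod_nil, mul_one, mul_inv_cancel_left]
  have cX : Commute (F S twoBase.2) ⁅F S twoBase.2, F S twoBase.1⁆ := by
    rw [hX]
    exact ((lifts_comm hK S hu (π_F hK S hs) (π_F hK S hu')).mul_right
      (lifts_comm hK S hv (π_F hK S hs) (π_F hK S hv'))).mul_right (hz _)
  have h1 : ⁅F S twoBase.2, F S twoBase.1⁆ * ⁅F S twoBase.2, F S twoBase.1⁆ = 1 := by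
    have e1 : ⁅F S twoBase.2 * F S twoBase.2, F S twoBase.1⁆ =
        F S twoBase.2 * ⁅F S twoBase.2, F S twoBase.1⁆ * (F S twoBase.2)⁻¹ * ⁅F S twoBase.2, F S twoBase.1⁆ := by
      simp only [commutatorElement_def]; group
    rw [F_sq hK S hs, commutatorElement_one_left, cX.eq, mul_inv_cancel_right] at e1
    exact e1.symm
  have cuv : Commute (F S u) (F S v) := lifts_comm hK S huv (π_F hK S hu') (π_F hK S hv')
  rw [hX] at h1
  have cz : Commute (F S u * F S v) (gen S) := hz _
  rw [cz.symm.mul_mul_mul_comm, cuv.symm.mul_mul_mul_comm, F_sq hK S hu', F_sq hK S hv', one_mul, one_mul] at h1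
  exact h1

include hK in
theorem move_F {i : ℕ} {n : E} (hn : ∀ r < chevF4.nroots, ∀ t : K, ∀ c : E, S.π c = S.R.xe r t →
      S.π (n * c * n⁻¹) = S.R.xe (auxF4.w i r) ((auxF4.eta i r : K) * t)) (hi : i < 4) {g : ℕ} (hg : g < 48) :
    n * F S g * n⁻¹ = F S (auxF4.w i g) := by
  obtain ⟨hp, -, hw⟩ := base_spec hg
  have hx : ∀ r < 48, S.π (n * a S r * n⁻¹) = x S (auxF4.w i r) := by
    intro r hr
    rw [hn r hr 1 _ (π_a S r), mul_one, x]
    have h2 := two_eq_zero hK
    rcases auxF4.eta_or i r with e | e <;> rw [e]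
    · rw [Int.cast_one]
    · rw [Int.cast_neg, Int.cast_one, show (-1 : K) = 1 by linear_combination -h2]
  have e : n * F S g * n⁻¹ = ⁅n * a S (bp g).2 * n⁻¹, n * a S (bp g).1 * n⁻¹⁆ := by
    rw [F]; simp only [commutatorElement_def]; group
  have hwg : auxF4.w i g < 48 := S.R.cert.w_lt (show i < chevF4.rank from hi) hg
  obtain ⟨hwp, hwq, -⟩ := isPair_spec (hw i hi)
  rw [e, ← single hK S (hw i hi)]
  exact comm_congr S ((hx _ (isPair_spec hp).2.1).trans (π_F hK S hwq).symm)
    ((hx _ (isPair_spec hp).1).trans (π_F hK S hwp).symm)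

include hK in
theorem defect_known : ∀ n, ∀ p ∈ twoKnown n, defect S p.1 p.2 = gen S := by
  intro n
  induction n with
  | zero => intro p hp; rw [twoKnown, List.take_zero, List.map_nil, List.mem_singleton] at hp; rw [hp]; rfl
  | succ n ih =>
    intro p hp
    rcases Nat.lt_or_ge n twoSteps.length with hn | hn
    swap
    · refine ih p ?_
      rwa [twoKnown, List.take_of_length_le (by omega), ← List.take_of_length_le hn] at hp
    simp only [twoKnown, List.take_succ_eq_append_getElem hn, List.map_append, List.mem_cons, List.mem_append,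
      List.map_cons, List.map_nil, List.not_mem_nil, or_false] at hp
    rcases hp with hp | hp | hp
    · exact ih p (by simp [twoKnown, hp])
    · exact ih p (List.mem_cons_of_mem _ hp)
    · have hm := List.all_eq_true.1 steps_ok (twoSteps[n], n)
        (List.mk_mem_zipIdx_iff_getElem?.2 (List.getElem?_eq_getElem hn))
      simp only [Bool.and_eq_true, nat_blt_iff] at hm
      obtain ⟨hm, hlt⟩ := hm
      have hget : (twoKnown twoSteps.length).getD (twoSteps[n]).1 twoBase ∈ twoKnown n := by
        have hl : (twoSteps[n]).1 < (twoKnown n).length := by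
          simp only [twoKnown, List.length_cons, List.length_map, List.length_take]; omega
        have hpre : twoKnown n <+: twoKnown twoSteps.length := by
          simp only [twoKnown]
          refine List.cons_prefix_cons.2 ⟨rfl, List.IsPrefix.map _ ?_⟩
          rw [List.take_length]; exact List.take_prefix _ _
        rw [List.getD_eq_getElem _ _ (lt_of_lt_of_le hl hpre.length_le), ← hpre.getElem hl]
        exact List.getElem_mem hl
      revert hm hget hp
      generalize twoSteps[n] = e
      obtain ⟨j, i, r', s'⟩ := e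
      unfold stepB
      simp only
      generalize (twoKnown twoSteps.length).getD j twoBase = q
      obtain ⟨r, s⟩ := q
      intro hp hm hget
      subst hp
      simp only [Bool.and_eq_true, Bool.or_eq_true, beq_iff_eq] at hm
      obtain ⟨⟨⟨⟨hl1, hl2⟩, hp1⟩, hp2⟩, hstep⟩ := hm
      have hl1 := Nat.eq_of_beq_eq_true hl1
      have hl2 := Nat.eq_of_beq_eq_true hl2
      obtain ⟨u, v, e1, huv, hu, hv, -⟩ := two_spec hp1 hl1
      obtain ⟨u', v', e2, huv', hu', hv', -⟩ := two_spec hp2 hl2
      obtain ⟨hr, hs, -⟩ := isPair_spec hp1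
      have ihq := ih (r, s) hget
      rw [← ihq]
      have cuv : Commute (F S u) (F S v) := lifts_comm hK S huv (π_F hK S hu) (π_F hK S hv)
      have cuv' : Commute (F S u') (F S v') := lifts_comm hK S huv' (π_F hK S hu') (π_F hK S hv')
      rcases hstep with ⟨⟨⟨hi, hr'⟩, hs'⟩, heq⟩ | ⟨⟨⟨-, hr'⟩, hs'⟩, heq⟩
      · obtain rfl := Nat.eq_of_beq_eq_true hr'
        obtain rfl := Nat.eq_of_beq_eq_true hs'
        have hi := nat_blt_iff.1 hi
        obtain ⟨m, hmv⟩ := exists_move S (show i < chevF4.rank from hi)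
        have hprod : ((oddTerms (auxF4.w i r) (auxF4.w i s)).map (F S)).prod =
            m * ((oddTerms r s).map (F S)).prod * m⁻¹ := by
          have hr2 : m * (F S u * F S v) * m⁻¹ = F S (auxF4.w i u) * F S (auxF4.w i v) := by
            rw [← move_F hK S hmv hi hu, ← move_F hK S hmv hi hv]; group
          rw [e1] at heq ⊢
          rw [e2] at heq ⊢
          simp only [List.map_cons, List.map_nil, List.reverse_cons, List.reverse_nil, List.nil_append,
            List.cons_append, List.cons.injEq, and_true] at heq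
          simp only [List.map_cons, List.map_nil, List.prod_cons, List.prod_nil, mul_one]
          rcases heq with ⟨a1, a2⟩ | ⟨a1, a2⟩
          · rw [hr2, a1, a2]
          · rw [hr2, cuv'.eq, a1, a2]
        have hd : defect S (auxF4.w i r) (auxF4.w i s) = m * defect S r s * m⁻¹ := by
          simp only [defect, hprod, ← move_F hK S hmv hi hr, ← move_F hK S hmv hi hs, commutatorElement_def]
          group
        rw [hd, Subgroup.mem_center_iff.1 (S.central (defect_ker hK S hp1 (by rw [e1]; simp [hu, hv]))) m,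
          mul_inv_cancel_right]
      · have er : r' = s := Nat.eq_of_beq_eq_true hr'
        have es : s' = r := Nat.eq_of_beq_eq_true hs'
        subst r' s'
        have hprod : ((oddTerms s r).map (F S)).prod = ((oddTerms r s).map (F S)).prod := by
          rw [e1] at heq ⊢
          rw [e2] at heq ⊢
          simp only [List.reverse_cons, List.reverse_nil, List.nil_append, List.cons_append, List.cons.injEq,
            and_true] at heq
          simp only [List.map_cons, List.map_nil, List.prod_cons, List.prod_nil, mul_one]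
          rcases heq with ⟨a1, a2⟩ | ⟨a1, a2⟩
          · rw [a1, a2]
          · rw [cuv'.eq, a1, a2]
        have hz := Subgroup.mem_center_iff.1 (S.central (gen_ker hK S))
        have hX : ⁅F S s, F S r⁆ = ((oddTerms r s).map (F S)).prod * gen S := by
          rw [← ihq, defect, mul_inv_cancel_left]
        have hP : ((oddTerms r s).map (F S)).prod * ((oddTerms r s).map (F S)).prod = 1 := by
          rw [e1]
          simp only [List.map_cons, List.map_nil, List.prod_cons, List.prod_nil, mul_one]
          rw [cuv.symm.mul_mul_mul_comm, F_sq hK S hu, F_sq hK S hv, one_mul]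
        have e : ⁅F S r, F S s⁆ = gen S * ((oddTerms r s).map (F S)).prod := by
          rw [← commutatorElement_inv (F S s) (F S r), hX, mul_inv_rev, inv_eq_of_mul_eq_one_right hP,
            inv_eq_of_mul_eq_one_right (gen_sq hK S)]
        rw [ihq, defect, hprod, e, ← hz _, inv_mul_cancel_left]

include hK in
/-- sections, once the remaining value is trivial -/
theorem exists_sections (hgen : gen S = 1) :
    ∃ f : ℕ → K → E, (∀ r, r < chevF4.nroots → ∀ t, S.π (f r t) = S.R.xe r t) ∧
      (∀ r t u, r < chevF4.nroots → f r t * f r u = f r (t + u)) ∧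
      (∀ r t, ¬ r < chevF4.nroots → f r t = 1) ∧
      ∀ r s t u, r < chevF4.nroots → s < chevF4.nroots → s ≠ r → s ≠ chevF4.neg r →
        f s u * f r t = f r t * f s u * ((chevF4.commWord K r s t u).map fun p => f p.1 p.2).prod := by
  classical
  let f : ℕ → K → E := fun r t => if r < chevF4.nroots ∧ t ≠ 0 then F S r else 1
  have f0 : ∀ r, f r 0 = 1 := fun r => if_neg (by simp)
  have f1 : ∀ {r : ℕ}, r < 48 → f r 1 = F S r := fun {r} hr => if_pos ⟨hr, one_ne_zero⟩
  have h2 := two_eq_zero hK
  refine ⟨f, fun r hr t => ?_, fun r t u hr => ?_, fun r t hr => if_neg fun h => hr h.1, ?_⟩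
  · rcases zero_or_one hK t with rfl | rfl
    · rw [f0, map_one, x_zero S hr]
    · rw [f1 hr, π_F hK S hr]; rfl
  · rcases zero_or_one hK t with rfl | rfl
    · rw [f0, one_mul, zero_add]
    · rcases zero_or_one hK u with rfl | rfl
      · rw [f0, mul_one, add_zero]
      · rw [one_add_one_eq_two, h2, f0, f1 hr, F_sq hK S hr]
  intro r s t u hr hs h1 h1'
  have hpos : ∀ e ∈ chevF4.commTerms r s, 1 ≤ e.2.2.1 ∧ 1 ≤ e.2.2.2 ∧ e.1 < 48 := fun e he => by
    have h := (show ((List.range 48).all fun r => (List.range 48).all fun s => (chevF4.commTerms r s).all fun e =>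
      Nat.blt 0 e.2.2.1 && Nat.blt 0 e.2.2.2) = true by decide +kernel)
    have h' := List.all_eq_true.1 (List.all_eq_true.1 (List.all_eq_true.1 h r (List.mem_range.2 hr)) s
      (List.mem_range.2 hs)) e he
    simp only [Bool.and_eq_true, nat_blt_iff] at h'
    exact ⟨h'.1, h'.2, (S.R.cert.commTerms_props hr hs e he).1⟩
  have hzero : ∀ t u : K, t = 0 ∨ u = 0 → ((chevF4.commWord K r s t u).map fun p => f p.1 p.2).prod = 1 := by
    intro t u h
    refine List.prod_eq_one fun y hy => ?_
    simp only [ChevalleyDatum.commWord, List.map_map, List.mem_map, Function.comp_apply] at hy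
    obtain ⟨e, he, rfl⟩ := hy
    obtain ⟨hi, hj, -⟩ := hpos e he
    rcases h with rfl | rfl
    · rw [neg_zero, zero_pow (by omega), mul_zero, zero_mul, f0]
    · rw [zero_pow (show e.2.2.2 ≠ 0 by omega), mul_zero, f0]
  rcases zero_or_one hK t with rfl | rfl
  · rw [hzero 0 u (Or.inl rfl), f0]; simp
  rcases zero_or_one hK u with rfl | rfl
  · rw [hzero 1 0 (Or.inr rfl), f0]; simp
  have hw : ((chevF4.commWord K r s 1 1).map fun p => f p.1 p.2).prod = ((oddTerms r s).map (F S)).prod := by
    rw [ChevalleyDatum.commWord, oddTerms]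
    have hlt : ∀ e ∈ chevF4.commTerms r s, e.1 < 48 := fun e he => (hpos e he).2.2
    revert hlt
    induction chevF4.commTerms r s with
    | nil => intro _; rfl
    | cons e L ih =>
      intro hlt
      have ih' := ih fun y hy => hlt y (List.mem_cons_of_mem _ hy)
      simp only [List.map_cons, List.prod_cons, show (-1 : K) = 1 by linear_combination -h2, one_pow, mul_one] at ih' ⊢
      rw [ih']
      rcases Int.emod_two_eq_zero_or_one e.2.1 with ho | ho
      · rw [show (e.2.1 : K) = 0 by
          rw [show e.2.1 = 2 * (e.2.1 / 2) by omega, Int.cast_mul, Int.cast_ofNat, h2, zero_mul],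
          f0, List.filter_cons_of_neg (by simp [ho]), one_mul]
      · rw [show (e.2.1 : K) = 1 by
          rw [show e.2.1 = 2 * (e.2.1 / 2) + 1 by omega, Int.cast_add, Int.cast_mul, Int.cast_ofNat, h2, zero_mul,
            zero_add, Int.cast_one],
          List.filter_cons_of_pos (by simp [ho]), List.map_cons, List.map_cons, List.prod_cons,
          f1 (hlt e List.mem_cons_self)]
  rw [hw, f1 hr, f1 hs]
  have hp : isPair r s (oddTerms r s) = true := by
    simp only [isPair, Bool.and_eq_true, Bool.not_eq_true', beq_self_eq_true, and_true]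
    exact ⟨⟨⟨nat_blt_iff.2 hr, nat_blt_iff.2 hs⟩, Bool.eq_false_iff.2 fun h => h1 (Nat.eq_of_beq_eq_true h).symm⟩,
      Bool.eq_false_iff.2 fun h => h1' (Nat.eq_of_beq_eq_true h)⟩
  have hcomm : ⁅F S s, F S r⁆ = ((oddTerms r s).map (F S)).prod := by
    have h' := List.all_eq_true.1 (List.all_eq_true.1 single_covered r (List.mem_range.2 hr)) s (List.mem_range.2 hs)
    rcases hl : oddTerms r s with - | ⟨g, - | ⟨g', - | ⟨g'', l⟩⟩⟩
    · rw [List.map_nil, List.prod_nil, commutatorElement_eq_one_iff_mul_comm]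
      exact (lifts_comm hK S (show comB r s = true by simp [comB, ← hl, hp]) (π_F hK S hr) (π_F hK S hs)).eq.symm
    · rw [single hK S (hl ▸ hp)]; simp
    · obtain ⟨u', v', -, -, -, -, hk⟩ := two_spec hp (by rw [hl]; rfl)
      have := defect_known hK S _ (r, s) hk
      rw [hgen, defect, inv_mul_eq_one, hl] at this
      exact this.symm
    · exfalso
      simp only [hl, Bool.or_eq_true, Bool.false_eq_true, or_false] at h'
      rcases h' with h' | h'
      · exact h1 (Nat.eq_of_beq_eq_true h').symm
      · exact h1' (Nat.eq_of_beq_eq_true h')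
  rw [← hcomm, commutatorElement_def, inv_eq_of_mul_eq_one_right (F_sq hK S hs),
    inv_eq_of_mul_eq_one_right (F_sq hK S hr)]
  have : F S r * F S s * (F S s * F S r * F S s * F S r) = F S r * (F S s * F S s) * F S r * F S s * F S r := by
    simp only [mul_assoc]
  rw [this, F_sq hK S hs, mul_one, F_sq hK S hr, one_mul]

end Sect

section Concrete

variable {K : Type u} [Field K] [Fintype K] (hK : Fintype.card K = 2)

theorem perfectData (K : Type u) [Field K] : Rel.PerfectData chevF4 K := perfectData_of_chk (by decide +kernel) K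

include hK in
/-- Perfect central extensions of the cover have kernel of order at most two. -/
theorem card_ker_le_cover {E : Type u} [Group E] [Finite E] (π : E →* chevF4.SteinbergCover K)
    (hs : Function.Surjective π) (hc : π.ker ≤ Subgroup.center E) (hE : commutator E = ⊤) :
    Nat.card π.ker ≤ 2 := by
  classical
  let S : CentExt chevF4 auxF4 K (chevF4.SteinbergCover K) E :=
    { R := StCover.scRaw certF4 K, L := _, hL := witF4, π := π, surj := hs, central := hc }
  set N := Subgroup.zpowers (gen S) with hN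
  have hNker : N ≤ π.ker := Subgroup.zpowers_le.2 (gen_ker hK S)
  haveI : N.Normal := ⟨fun n hn g => by
    rwa [Subgroup.mem_center_iff.1 (hc (hNker hn)) g, mul_inv_cancel_right]⟩
  let π' : E ⧸ N →* chevF4.SteinbergCover K := QuotientGroup.lift N π hNker
  let S' : CentExt chevF4 auxF4 K (chevF4.SteinbergCover K) (E ⧸ N) :=
    { R := S.R, L := S.L, hL := S.hL, π := π'
      surj := fun x => by obtain ⟨a, rfl⟩ := hs x; exact ⟨QuotientGroup.mk a, rfl⟩
      central := by
        intro q hq
        obtain ⟨g, rfl⟩ := QuotientGroup.mk_surjective q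
        refine Subgroup.mem_center_iff.2 fun r => ?_
        obtain ⟨h, rfl⟩ := QuotientGroup.mk_surjective r
        exact congrArg QuotientGroup.mk (Subgroup.mem_center_iff.1 (hc hq) h) }
  have hF : ∀ g, QuotientGroup.mk' N (F S g) = F S' g := fun g => by
    rw [F, F, map_commutatorElement]
    exact comm_congr S' ((π_lf S _ _).trans (π_lf S' _ _).symm) ((π_lf S _ _).trans (π_lf S' _ _).symm)
  have hgen : gen S' = 1 := by
    have : gen S' = QuotientGroup.mk' N (gen S) := by
      simp only [gen, defect, map_mul, map_inv, map_list_prod, map_commutatorElement, List.map_map, hF]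
      congr 3
      exact List.map_congr_left fun y _ => (hF y).symm
    rw [this]
    exact (QuotientGroup.eq_one_iff _).2 (Subgroup.mem_zpowers _)
  obtain ⟨f, h0, h1, hoob, h2⟩ := exists_sections hK S' hgen
  obtain ⟨τ, hτ⟩ := exists_split π' h0 h1 hoob h2
  have hτx : ∀ x, π' (τ x) = x := fun x => DFunLike.congr_fun hτ x
  have hE' : commutator (E ⧸ N) = ⊤ := by
    rw [commutator_def, ← Subgroup.map_top_of_surjective _ (QuotientGroup.mk'_surjective N),
      ← Subgroup.map_commutator, ← commutator_def, hE]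
  have hτs : Function.Surjective τ := by
    have hsup : τ.range ⊔ π'.ker = ⊤ := eq_top_iff.2 fun g _ => by
      rw [show g = τ (π' g) * ((τ (π' g))⁻¹ * g) by group]
      exact Subgroup.mul_mem_sup ⟨_, rfl⟩ (by rw [MonoidHom.mem_ker, map_mul, map_inv, hτx, inv_mul_cancel])
    rw [← MonoidHom.range_eq_top, eq_top_iff, ← hE',
      CfsgLib.Schur.commutator_eq_map_of_range_sup τ π'.ker S'.central hsup]
    exact Subgroup.map_le_range _ _
  have hker : π.ker ≤ N := fun z hz => by
    obtain ⟨x, hx⟩ := hτs (QuotientGroup.mk z)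
    have hx1 : x = 1 := by rw [← hτx x, hx]; exact hz
    rw [hx1, map_one] at hx
    exact (QuotientGroup.eq_one_iff z).1 hx.symm
  refine (Nat.le_of_dvd Nat.card_pos (Subgroup.card_dvd_of_le hker)).trans ?_
  rw [Nat.card_zpowers]
  exact Nat.le_of_dvd (by norm_num) (orderOf_dvd_of_pow_eq_one (by rw [pow_two]; exact gen_sq hK S))

include hK in
/-- The presented group is the Chevalley group. -/
theorem nonempty_cover_equiv : Nonempty (chevF4.SteinbergCover K ≃* ↥(chevF4.group K)) := by
  have hconn : Rel.Connected chevF4 := connected_of_chk (by decide +kernel)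
  have hθc := StCover.ker_le_center certF4 (K := K) witF4 hconn (perfectData K)
  have hcen : Nat.card (Subgroup.center (chevF4.SteinbergGroup K)) = 1 :=
    card_center_unimod certF4 K witF4 hconn cmat_F4 smithF4 (by decide +kernel)
  obtain ⟨eS, -⟩ := StCover.equiv_steinbergGroup certF4 (K := K) witF4
  have hker : (StCover.scTheta certF4 K).ker = ⊥ := by
    have hsub : Subsingleton (Subgroup.center (chevF4.SteinbergCover K)) := by
      have h1 : Nat.card (Subgroup.center (chevF4.SteinbergCover K)) = 1 :=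
        (Nat.card_congr (Subgroup.centerCongr eS).toEquiv).trans hcen
      exact (Nat.card_eq_one_iff_unique.1 h1).1
    refine (Subgroup.eq_bot_iff_forall _).2 fun z hz => ?_
    exact congrArg Subtype.val (Subsingleton.elim (⟨z, hθc hz⟩ : Subgroup.center (chevF4.SteinbergCover K)) 1)
  exact ⟨MulEquiv.ofBijective (StCover.scTheta certF4 K)
      ⟨(MonoidHom.ker_eq_bot_iff _).1 hker, StCover.scTheta_surjective certF4 K⟩⟩

include hK in
/-- The kernel of a stem extension of `F₄(2)` has order at most two. -/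
theorem card_ker_le {Γ : Type u} [Group Γ] [Finite Γ] (σ : Γ →* ↥(chevF4.group K))
    (hσ : Cfsg.IsStemExtension σ) : Nat.card σ.ker ≤ 2 := by
  obtain ⟨hs, hc, hd⟩ := hσ
  obtain ⟨e⟩ := nonempty_cover_equiv hK
  have hk : (e.symm.toMonoidHom.comp σ).ker = σ.ker := by ext; simp
  have hperf := StCover.commutator_eq_top certF4 witF4 (perfectData K)
  have h := card_ker_le_cover hK (e.symm.toMonoidHom.comp σ) (e.symm.surjective.comp hs) (hk ▸ hc) (by
    exact CfsgLib.Schur.commutator_eq_top_of_central hperf (e.symm.toMonoidHom.comp σ)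
      (e.symm.surjective.comp hs) (hk ▸ hd))
  rwa [hk] at h

end Concrete

end CfsgLib.Known.F4TwoMult
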