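import Cfsg.Agent.Lib.Known.F4TwoMult.RelAll
import Cfsg.Agent.Lib.Known.F4TwoMult.Upper
import Cfsg.Agent.Lib.Schur.Multiplier
import Cfsg.Agent.S1054

/-!
# The Schur multiplier of `F₄(2)` (owner: helper6)

The listed matrices satisfy the relations of the Steinberg presentation up to sign; the matrices over their
images modulo sign form a double cover.
-/

set_option autoImplicit false
set_option maxRecDepth 20000

namespace CfsgLib.Known.F4TwoMult

open Cfsg.Lie
open CfsgLib.Lie.Chev
open CfsgLib.Known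
open CfsgLib.Known.F4TwoMult.Packed
open scoped commutatorElement

/-- The invertible matrices. -/
abbrev U : Type := GL (Fin 52) Z

/-- The signs. -/
def Sg : Subgroup U := Subgroup.zpowers (-1)

theorem sg_le : Sg ≤ Subgroup.center U := by
  refine Subgroup.zpowers_le.2 (Subgroup.mem_center_iff.2 fun g => ?_)
  simp

instance : Sg.Normal := ⟨fun n hn g => by
  rwa [Subgroup.mem_center_iff.1 (sg_le hn) g, mul_inv_cancel_right]⟩

/-- The matrices modulo sign. -/
abbrev Q : Type := U ⧸ Sg

theorem neg_one_mem : (-1 : U) ∈ Sg := Subgroup.mem_zpowers _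

theorem mk_eq {a b : U} (h : (a : Matrix (Fin 52) (Fin 52) Z) = b ∨ (a : Matrix (Fin 52) (Fin 52) Z) = -b) :
    (QuotientGroup.mk a : Q) = QuotientGroup.mk b := by
  rcases h with h | h
  · rw [Units.ext h]
  · rw [show a = b * -1 from Units.ext (by rw [h]; simp)]
    exact (QuotientGroup.eq.2 (by rw [inv_mul_cancel_left]; exact neg_one_mem)).symm

theorem ok_gM {r : ℕ} (hr : r < 48) : okMat 52 (gM r) = true :=
  List.all_eq_true.1 gM_ok r (List.mem_range.2 hr)

theorem ok_idm : okMat 52 (idm 52) = true := by decide +kernel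

theorem mat_mul {A B : List ℕ} (hA : okMat 52 A = true) (hB : okMat 52 B = true) :
    toMat 52 (pmK 52 A B) = toMat 52 A * toMat 52 B ∧ okMat 52 (pmK 52 A B) = true := by
  rw [pmK_eq]
  exact ⟨toMat_pm (by norm_num) hA hB, okMat_pm hA⟩

theorem sq_gM {r : ℕ} (hr : r < 48) :
    toMat 52 (gM r) * toMat 52 (gM r) = 1 ∨ toMat 52 (gM r) * toMat 52 (gM r) = -1 := by
  have h := rows hr
  simp only [rowChk, Bool.and_eq_true] at h
  have h2 := sgEq_spec ok_idm h.1
  rwa [(mat_mul (ok_gM hr) (ok_gM hr)).1, toMat_idm] at h2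

/-- A root element as an invertible matrix. -/
noncomputable def gU (r : ℕ) : U :=
  if hr : r < 48 then (show IsUnit (toMat 52 (gM r)) from
    isUnit_of_mul_isUnit_left (y := toMat 52 (gM r)) (by
      rcases sq_gM hr with e | e <;> rw [e]
      · exact isUnit_one
      · exact isUnit_one.neg)).unit
  else 1

theorem val_gU {r : ℕ} (hr : r < 48) : (gU r : Matrix (Fin 52) (Fin 52) Z) = toMat 52 (gM r) := by
  rw [gU, dif_pos hr]; rfl

/-- A root element modulo sign. -/
noncomputable def gQ (r : ℕ) : Q := QuotientGroup.mk (gU r)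

theorem gQ_sq {r : ℕ} (hr : r < 48) : gQ r * gQ r = 1 := by
  rw [gQ, ← QuotientGroup.mk_mul]
  refine (mk_eq (b := 1) ?_).trans rfl
  rw [Units.val_mul, Units.val_one, val_gU hr]
  exact sq_gM hr

theorem word_mat : ∀ l : List ℕ, (∀ e ∈ l, e < 48) →
    toMat 52 (wordM l) = (((l.map gU).prod : U) : Matrix (Fin 52) (Fin 52) Z) ∧ okMat 52 (wordM l) = true
  | [], _ => ⟨by show toMat 52 (idm 52) = _; simp [toMat_idm], ok_idm⟩
  | [e], h => by
    show toMat 52 (gM e) = _ ∧ okMat 52 (gM e) = true
    exact ⟨by simp [val_gU (h e List.mem_cons_self)], ok_gM (h e List.mem_cons_self)⟩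
  | e :: e' :: l, h => by
    obtain ⟨h1, h2⟩ := word_mat (e' :: l) fun y hy => h y (List.mem_cons_of_mem _ hy)
    have he := h e List.mem_cons_self
    show toMat 52 (pmK 52 (gM e) (wordM (e' :: l))) = _ ∧ okMat 52 (pmK 52 (gM e) (wordM (e' :: l))) = true
    obtain ⟨h3, h4⟩ := mat_mul (ok_gM he) h2
    refine ⟨?_, h4⟩
    rw [h3, h1, ← val_gU he, ← Units.val_mul]
    rfl

/-- facts about the terms in the reversed pair -/
theorem flip_ok : ((List.range 48).all fun r => (List.range 48).all fun s =>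
    (oddTerms r s).all (Nat.blt · 48) &&
    (Nat.beq r s || Nat.beq s (chevF4.neg r) ||
    match oddTerms r s with
    | [] => (oddTerms s r).isEmpty
    | [g] => oddTerms s r == [g]
    | [u, v] => (oddTerms s r == [u, v] || oddTerms s r == [v, u]) && comB u v && Nat.blt u v
    | _ => false) || (oddTerms r s).length == 2) = true := by decide +kernel

theorem gQ_rel_lt {r s : ℕ} (hr : r < 48) (hs : s < 48) (h : r < s) (h2 : s ≠ chevF4.neg r) :
    gQ s * gQ r = gQ r * gQ s * ((oddTerms r s).map gQ).prod := by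
  have hrow := rows hr
  simp only [rowChk, Bool.and_eq_true, List.all_eq_true, List.mem_range, Bool.or_eq_true,
    Bool.not_eq_true'] at hrow
  have h3 : pairChk r s = true := by
    rcases hrow.2 s hs with (e | e) | e
    · rw [nat_blt_iff.2 h] at e; exact Bool.noConfusion e
    · exact absurd (Nat.eq_of_beq_eq_true e) h2
    · exact e
  have hlt : ∀ e ∈ oddTerms r s, e < 48 := by
    intro e he
    rw [oddTerms, List.mem_map] at he
    obtain ⟨d, hd, rfl⟩ := he
    exact (certF4.commTerms_props hr hs d (List.mem_filter.1 hd).1).1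
  have hw : ((oddTerms r s).map gQ).prod = QuotientGroup.mk' Sg ((oddTerms r s).map gU).prod := by
    rw [map_list_prod, List.map_map]; rfl
  rw [hw, gQ, gQ, QuotientGroup.mk'_apply, ← QuotientGroup.mk_mul, ← QuotientGroup.mk_mul, ← QuotientGroup.mk_mul]
  refine mk_eq ?_
  obtain ⟨hm1, hm2⟩ := word_mat (oddTerms r s) hlt
  obtain ⟨hb1, hb2⟩ := mat_mul (ok_gM hs) (ok_gM hr)
  obtain ⟨hc1, hc2⟩ := mat_mul (ok_gM hr) (ok_gM hs)
  rw [Units.val_mul, Units.val_mul, Units.val_mul, val_gU hs, val_gU hr]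
  unfold pairChk at h3
  split at h3
  · next e =>
    have h4 := sgEq_spec hc2 h3
    rw [hb1, hc1] at h4
    simpa [e] using h4
  · obtain ⟨hd1, hd2⟩ := mat_mul hc2 hm2
    have h4 := sgEq_spec hd2 h3
    rwa [hb1, hd1, hc1, hm1] at h4

theorem gQ_comm {u v : ℕ} (h : comB u v = true) : Commute (gQ u) (gQ v) := by
  obtain ⟨hu, hv⟩ := comB_lt h
  simp only [comB, Bool.or_eq_true, Bool.and_eq_true] at h
  rcases h with ⟨h, -⟩ | h
  · rw [Nat.eq_of_beq_eq_true h]
  obtain ⟨-, -, h1, h2, e⟩ := isPair_spec h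
  rcases Nat.lt_or_ge u v with hlt | hge
  · have := gQ_rel_lt hu hv hlt h2
    rw [e, List.map_nil, List.prod_nil, mul_one] at this
    exact this.symm
  · have h2' : u ≠ chevF4.neg v := fun e' => h2 (by rw [e', certF4.neg_neg hv])
    have hf := List.all_eq_true.1 (List.all_eq_true.1 flip_ok u (List.mem_range.2 hu)) v (List.mem_range.2 hv)
    simp only [e, Bool.and_eq_true, Bool.or_eq_true, List.isEmpty_iff, List.length_nil] at hf
    have e' : oddTerms v u = [] := by
      rcases hf with ⟨-, ((h' | h') | h')⟩ | h'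
      · exact absurd (Nat.eq_of_beq_eq_true h').symm h1
      · exact absurd (Nat.eq_of_beq_eq_true h') h2
      · exact h'
      · simp at h'
    have := gQ_rel_lt hv hu (lt_of_le_of_ne hge h1) h2'
    rw [e', List.map_nil, List.prod_nil, mul_one] at this
    exact this

theorem gQ_rel {r s : ℕ} (hr : r < 48) (hs : s < 48) (h1 : s ≠ r) (h2 : s ≠ chevF4.neg r) :
    gQ s * gQ r = gQ r * gQ s * ((oddTerms r s).map gQ).prod := by
  rcases Nat.lt_or_ge r s with hlt | hge
  · exact gQ_rel_lt hr hs hlt h2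
  have h2' : r ≠ chevF4.neg s := fun e' => h2 (by rw [e', certF4.neg_neg hs])
  have h := gQ_rel_lt hs hr (lt_of_le_of_ne hge h1) h2'
  have hf := List.all_eq_true.1 (List.all_eq_true.1 flip_ok s (List.mem_range.2 hs)) r (List.mem_range.2 hr)
  have hsame : ((oddTerms s r).map gQ).prod = ((oddTerms r s).map gQ).prod ∧
      ((oddTerms s r).map gQ).prod * ((oddTerms s r).map gQ).prod = 1 := by
    simp only [Bool.and_eq_true, Bool.or_eq_true, List.all_eq_true, nat_blt_iff] at hf
    rcases hl : oddTerms s r with - | ⟨g, - | ⟨g', - | ⟨g'', l⟩⟩⟩ <;> rw [hl] at hf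
    · simp only [List.isEmpty_iff, List.length_nil] at hf
      rcases hf with ⟨-, ((h' | h') | h')⟩ | h'
      · exact absurd (Nat.eq_of_beq_eq_true h') h1
      · exact absurd (Nat.eq_of_beq_eq_true h') h2'
      · rw [h']; simp
      · simp at h'
    · simp only [beq_iff_eq, List.length_cons, List.length_nil] at hf
      rcases hf with ⟨hlt, ((h' | h') | h')⟩ | h'
      · exact absurd (Nat.eq_of_beq_eq_true h') h1
      · exact absurd (Nat.eq_of_beq_eq_true h') h2'
      · rw [h']; simp [gQ_sq (hlt g List.mem_cons_self)]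
      · omega
    · have hf' := List.all_eq_true.1 (List.all_eq_true.1 single_covered s (List.mem_range.2 hs)) r (List.mem_range.2 hr)
      simp only [hl, Bool.and_eq_true, Bool.or_eq_true] at hf'
      rcases hf' with (h' | h') | ⟨⟨⟨-, hc⟩, hu⟩, hv⟩
      · exact absurd (Nat.eq_of_beq_eq_true h') h1
      · exact absurd (Nat.eq_of_beq_eq_true h') h2'
      have cq := gQ_comm hc
      have hrev : oddTerms r s = [g, g'] ∨ oddTerms r s = [g', g] := by
        have := (show ((List.range 48).all fun r => (List.range 48).all fun s =>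
          match oddTerms r s with
          | [u, v] => oddTerms s r == [u, v] || oddTerms s r == [v, u]
          | _ => true) = true by decide +kernel)
        have := List.all_eq_true.1 (List.all_eq_true.1 this s (List.mem_range.2 hs)) r (List.mem_range.2 hr)
        simpa [hl] using this
      refine ⟨?_, ?_⟩
      · rcases hrev with e | e <;> rw [e]
        simp [cq.eq]
      · simp only [List.map_cons, List.map_nil, List.prod_cons, List.prod_nil, mul_one]
        rw [cq.symm.mul_mul_mul_comm, gQ_sq (nat_blt_iff.1 hu), gQ_sq (nat_blt_iff.1 hv), one_mul]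
    · exfalso
      have hf' := List.all_eq_true.1 (List.all_eq_true.1 single_covered s (List.mem_range.2 hs)) r (List.mem_range.2 hr)
      simp only [hl, Bool.or_eq_true, Bool.false_eq_true, or_false] at hf'
      rcases hf' with h' | h'
      · exact h1 (Nat.eq_of_beq_eq_true h') |>.elim
      · exact h2' (Nat.eq_of_beq_eq_true h')
  obtain ⟨e1, e2⟩ := hsame
  rw [← e1, h, mul_assoc _ ((oddTerms s r).map gQ).prod, e2, mul_one]

universe u

variable {F : Type u} [Field F] [Fintype F] (hF : Fintype.card F = 2)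

include hF in
/-- The root elements modulo sign satisfy the relations. -/
theorem exists_hom : ∃ τ : chevF4.SteinbergCover F →* Q, ∀ r, r < 48 → τ (chevF4.scGen F r 1) = gQ r := by
  classical
  let g : ℕ → F → Q := fun r t => if t = 0 then 1 else gQ r
  have g0 : ∀ r, g r 0 = 1 := fun r => if_pos rfl
  have g1 : ∀ r, g r 1 = gQ r := fun r => if_neg one_ne_zero
  let f : Fin chevF4.nroots × F → Q := fun p => g p.1 p.2
  have hlift : ∀ (r : ℕ) (t : F), r < 48 → FreeGroup.lift f (chevF4.stX r t) = g r t := fun r t hr => by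
    rw [ChevalleyDatum.stX, dif_pos (show r < chevF4.nroots from hr)]
    exact FreeGroup.lift_apply_of
  have h2 := two_eq_zero hF
  have hrels : ∀ w ∈ chevF4.steinbergRelsAB F, FreeGroup.lift f w = 1 := by
    rintro w (⟨r, t, u, hr, rfl⟩ | ⟨r, s, t, u, hr, hs, hne, hneg, rfl⟩)
    · simp only [map_mul, map_inv, hlift _ _ hr, mul_inv_eq_one]
      rcases zero_or_one hF t with rfl | rfl
      · rw [g0, one_mul, zero_add]
      · rcases zero_or_one hF u with rfl | rfl
        · rw [g0, mul_one, add_zero]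
        · rw [one_add_one_eq_two, h2, g0, g1, gQ_sq hr]
    · have hlt : ∀ e ∈ chevF4.commTerms r s, e.1 < 48 := fun e he => (certF4.commTerms_props hr hs e he).1
      have hw : FreeGroup.lift f (chevF4.stWord (chevF4.commWord F r s t u)) =
          if t = 0 ∨ u = 0 then 1 else ((oddTerms r s).map gQ).prod := by
        have hpos := (show ((List.range 48).all fun r => (List.range 48).all fun s => (chevF4.commTerms r s).all fun e =>
          Nat.blt 0 e.2.2.1 && Nat.blt 0 e.2.2.2) = true by decide +kernel)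
        have hpos' := List.all_eq_true.1 (List.all_eq_true.1 hpos r (List.mem_range.2 hr)) s (List.mem_range.2 hs)
        rw [ChevalleyDatum.stWord, ChevalleyDatum.commWord, oddTerms, map_list_prod]
        revert hlt hpos'
        induction chevF4.commTerms r s with
        | nil => intro _ _; simp
        | cons e L ih =>
          intro hlt hpos'
          rw [List.all_cons, Bool.and_eq_true, Bool.and_eq_true, nat_blt_iff, nat_blt_iff] at hpos'
          have ih' := ih (fun y hy => hlt y (List.mem_cons_of_mem _ hy)) hpos'.2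
          rw [List.map_cons, List.map_cons, List.map_cons, List.prod_cons, ih', hlift _ _ (hlt e List.mem_cons_self)]
          rcases zero_or_one hF t with rfl | rfl
          · simp [zero_pow (show e.2.2.1 ≠ 0 by omega), g0]
          rcases zero_or_one hF u with rfl | rfl
          · simp [zero_pow (show e.2.2.2 ≠ 0 by omega), g0]
          simp only [one_ne_zero, or_self, if_false, show (-1 : F) = 1 by linear_combination -h2, one_pow, mul_one]
          rcases Int.emod_two_eq_zero_or_one e.2.1 with ho | ho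
          · rw [show (e.2.1 : F) = 0 by
              rw [show e.2.1 = 2 * (e.2.1 / 2) by omega, Int.cast_mul, Int.cast_ofNat, h2, zero_mul],
              g0, List.filter_cons_of_neg (by simp [ho]), one_mul]
          · rw [show (e.2.1 : F) = 1 by
              rw [show e.2.1 = 2 * (e.2.1 / 2) + 1 by omega, Int.cast_add, Int.cast_mul, Int.cast_ofNat, h2, zero_mul,
                zero_add, Int.cast_one],
              List.filter_cons_of_pos (by simp [ho]), List.map_cons, List.map_cons, List.prod_cons, g1]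
      simp only [map_mul, map_inv, hlift _ _ hr, hlift _ _ hs, hw, mul_inv_eq_one]
      rcases zero_or_one hF t with rfl | rfl
      · simp [g0]
      rcases zero_or_one hF u with rfl | rfl
      · simp [g0]
      rw [g1, g1, if_neg (by simp), mul_assoc _ (gQ s) (gQ r), gQ_rel hr hs hne hneg]
      group
  refine ⟨PresentedGroup.toGroup hrels, fun r hr => ?_⟩
  rw [ChevalleyDatum.scGen, ChevalleyDatum.stX, dif_pos (show r < chevF4.nroots from hr)]
  exact (PresentedGroup.toGroup.of hrels).trans (g1 r)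

theorem one_ne_neg_one : (1 : U) ≠ -1 := fun h => by
  have h2 : ((1 : U) : Matrix (Fin 52) (Fin 52) Z) 0 0 = ((-1 : U) : Matrix (Fin 52) (Fin 52) Z) 0 0 := by rw [← h]
  simp at h2
  exact absurd h2 (by decide)

theorem card_sg : Nat.card Sg = 2 := by
  rw [Sg, Nat.card_zpowers]
  exact orderOf_eq_prime neg_one_sq (Ne.symm one_ne_neg_one)

/-- Three relations which hold with definite signs. -/
theorem sign_chk : (sameList (pmK 52 (gM 14) (gM 7)) (ng 52 (pmK 52 (pmK 52 (gM 7) (gM 14)) (gM 3))) &&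
    sameList (pmK 52 (gM 32) (gM 1)) (pmK 52 (pmK 52 (gM 1) (gM 32)) (gM 6)) &&
    sameList (pmK 52 (gM 29) (gM 0)) (pmK 52 (pmK 52 (gM 0) (gM 29)) (pmK 52 (gM 3) (gM 6)))) = true := by
  decide +kernel

theorem val_prod {r s : ℕ} (hr : r < 48) (hs : s < 48) :
    ((gU r * gU s : U) : Matrix (Fin 52) (Fin 52) Z) = toMat 52 (pmK 52 (gM r) (gM s)) ∧
      okMat 52 (pmK 52 (gM r) (gM s)) = true := by
  obtain ⟨h1, h2⟩ := mat_mul (ok_gM hr) (ok_gM hs)
  exact ⟨by rw [Units.val_mul, val_gU hr, val_gU hs, h1], h2⟩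

theorem neg_rel {a b c : ℕ} (ha : a < 48) (hb : b < 48) (hc : c < 48)
    (h : sameList (pmK 52 (gM b) (gM a)) (ng 52 (pmK 52 (pmK 52 (gM a) (gM b)) (gM c))) = true) :
    gU b * gU a = -(gU a * gU b * gU c) := by
  obtain ⟨h1, h2⟩ := val_prod ha hb
  obtain ⟨h3, h4⟩ := mat_mul h2 (ok_gM hc)
  refine Units.ext ?_
  rw [(val_prod hb ha).1, sameList_eq h, toMat_ng h4, h3, ← h1, ← val_gU hc, Units.val_neg, Units.val_mul, Units.val_mul, Units.val_mul]

theorem pos_rel {a b : ℕ} {w : List ℕ} {x : U} (ha : a < 48) (hb : b < 48)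
    (hw : (x : Matrix (Fin 52) (Fin 52) Z) = toMat 52 w ∧ okMat 52 w = true)
    (h : sameList (pmK 52 (gM b) (gM a)) (pmK 52 (pmK 52 (gM a) (gM b)) w) = true) :
    gU b * gU a = gU a * gU b * x := by
  obtain ⟨h1, h2⟩ := val_prod ha hb
  obtain ⟨h3, h4⟩ := mat_mul h2 hw.2
  refine Units.ext ?_
  rw [(val_prod hb ha).1, sameList_eq h, h3, ← h1, ← hw.1, Units.val_mul _ x]

/-- The commutator of two inverses. -/
noncomputable abbrev cm (a b : ℕ) : U := ⁅(gU b)⁻¹, (gU a)⁻¹⁆

theorem cm_eq {a b : ℕ} {x : U} (h : gU b * gU a = gU a * gU b * x) : cm a b = x := by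
  have e : x = (gU a * gU b)⁻¹ * (gU b * gU a) := by rw [h, inv_mul_cancel_left]
  rw [e, cm, commutatorElement_def]
  group

theorem sign_witness : (-1 : U) = cm 7 14 * cm 1 32 * (cm 0 29)⁻¹ := by
  have h := sign_chk
  simp only [Bool.and_eq_true] at h
  obtain ⟨⟨hA, hB⟩, hC⟩ := h
  have eA : cm 7 14 = -gU 3 :=
    cm_eq (by rw [neg_rel (by norm_num) (by norm_num) (by norm_num) hA, mul_neg])
  have eB : cm 1 32 = gU 6 :=
    cm_eq (pos_rel (by norm_num) (by norm_num) ⟨val_gU (by norm_num), ok_gM (by norm_num)⟩ hB)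
  have eC : cm 0 29 = gU 3 * gU 6 :=
    cm_eq (pos_rel (by norm_num) (by norm_num) (val_prod (by norm_num) (by norm_num)) hC)
  rw [eA, eB, eC, neg_mul, neg_mul, mul_inv_cancel]

theorem entry_seven : lane ((gM 7).getD 0 0) 1 = 1 := by decide +kernel

theorem moved : gQ 7 ≠ 1 := fun h => by
  rw [gQ, QuotientGroup.eq_one_iff, Sg, Subgroup.mem_zpowers_iff] at h
  obtain ⟨n, hn⟩ := h
  have he : ((gU 7 : U) : Matrix (Fin 52) (Fin 52) Z) (⟨0, by norm_num⟩) (⟨1, by norm_num⟩) = 1 := by
    rw [val_gU (by norm_num)]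
    show ((lane ((gM 7).getD 0 0) 1 : ℕ) : Z) = 1
    rw [entry_seven, Nat.cast_one]
  rcases Int.even_or_odd n with hp | hp
  · rw [← hn, hp.neg_one_zpow, Units.val_one, Matrix.one_apply_ne (by simp [Fin.ext_iff])] at he
    exact zero_ne_one he
  · rw [← hn, hp.neg_one_zpow, Units.val_neg, Units.val_one, Matrix.neg_apply,
      Matrix.one_apply_ne (by simp [Fin.ext_iff]), neg_zero] at he
    exact zero_ne_one he

theorem equiv_two {G : Type*} [Group G] (h : Nat.card G = 2) : Nonempty (G ≃* Multiplicative (ZMod 2)) :=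
  haveI := Fact.mk Nat.prime_two
  ⟨mulEquivOfPrimeCardEq (p := 2) h ((Nat.card_congr Multiplicative.toAdd).trans (Nat.card_zmod 2))⟩

include hF in
/-- The Schur multiplier of `F₄(2)`. -/
theorem hasCyclicSchurMultiplier : Cfsg.HasCyclicSchurMultiplier ↥(chevF4.group F) 2 := by
  classical
  obtain ⟨φ, hφ⟩ := exists_hom hF
  obtain ⟨hsimple, -⟩ := Cfsg.Agent.S1054.result (F := F) chevF4 (by simp)
  obtain ⟨e⟩ : Nonempty (chevF4.SteinbergCover F ≃* ↥(chevF4.group F)) := nonempty_cover_equiv hF
  let ψ : ↥(chevF4.group F) →* Q := φ.comp e.symm.toMonoidHom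
  have hψi : Function.Injective ψ := by
    rcases IsSimpleGroup.eq_bot_or_eq_top_of_normal ψ.ker ψ.normal_ker with h | h
    · exact (MonoidHom.ker_eq_bot_iff ψ).1 h
    · exfalso
      have h1 : ψ (e (chevF4.scGen F 7 1)) = 1 := MonoidHom.mem_ker.1 (h ▸ Subgroup.mem_top _)
      simp only [ψ, MonoidHom.comp_apply, MulEquiv.coe_toMonoidHom, MulEquiv.symm_apply_apply] at h1
      rw [hφ 7 (by norm_num)] at h1
      exact moved h1
  let E : Subgroup U := ψ.range.comap (QuotientGroup.mk' Sg)
  let π : E →* ↥(chevF4.group F) := (MonoidHom.ofInjective hψi).symm.toMonoidHom.comp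
    (((QuotientGroup.mk' Sg).comp E.subtype).codRestrict ψ.range fun g => g.2)
  have hπ : ∀ g : E, ψ (π g) = QuotientGroup.mk' Sg g := fun g =>
    congrArg Subtype.val ((MonoidHom.ofInjective hψi).apply_symm_apply ⟨_, g.2⟩)
  have hker : ∀ g : E, g ∈ π.ker ↔ (g : U) ∈ Sg := fun g => by
    rw [MonoidHom.mem_ker, ← hψi.eq_iff, hπ, map_one]
    exact QuotientGroup.eq_one_iff _
  have hmem : ∀ r : ℕ, r < 48 → gU r ∈ E := fun r hr => by
    refine ⟨e (chevF4.scGen F r 1), ?_⟩
    simp only [ψ, MonoidHom.comp_apply, MulEquiv.coe_toMonoidHom, MulEquiv.symm_apply_apply]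
    rw [hφ r hr]
    rfl
  have hcm : ∀ a b : ℕ, a < 48 → b < 48 → ∃ g : E, g ∈ commutator E ∧ (g : U) = cm a b := fun a b ha hb =>
    ⟨⁅(⟨gU b, hmem b hb⟩ : E)⁻¹, (⟨gU a, hmem a ha⟩ : E)⁻¹⁆,
      Subgroup.commutator_mem_commutator (Subgroup.mem_top _) (Subgroup.mem_top _), by
        simp [cm, commutatorElement_def]⟩
  have hstem : Cfsg.IsStemExtension π := by
    refine ⟨fun x => ?_, fun g hg => Subgroup.mem_center_iff.2 fun h =>
      Subtype.ext (Subgroup.mem_center_iff.1 (sg_le ((hker g).1 hg)) h), fun g hg => ?_⟩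
    · obtain ⟨g, hg⟩ := QuotientGroup.mk_surjective (ψ x)
      have hgE : g ∈ E := ⟨x, hg.symm⟩
      exact ⟨⟨g, hgE⟩, hψi (by rw [hπ]; exact hg)⟩
    · obtain ⟨n, hn⟩ := (hker g).1 hg
      obtain ⟨a, ha, ha'⟩ := hcm 7 14 (by norm_num) (by norm_num)
      obtain ⟨b, hb, hb'⟩ := hcm 1 32 (by norm_num) (by norm_num)
      obtain ⟨c, hc, hc'⟩ := hcm 0 29 (by norm_num) (by norm_num)
      have hneg : (a * b * c⁻¹) ^ n = g := by
        refine Subtype.ext ?_
        rw [SubgroupClass.coe_zpow, ← hn, Subgroup.coe_mul, Subgroup.coe_mul, Subgroup.coe_inv, ha', hb', hc',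
          ← sign_witness]
      rw [← hneg]
      exact zpow_mem (mul_mem (mul_mem ha hb) (inv_mem hc)) _
  have hcard : Nat.card π.ker = 2 := by
    rw [← card_sg]
    refine Nat.card_congr
      { toFun := fun g => ⟨(g.1 : U), (hker g.1).1 g.2⟩
        invFun := fun z => ⟨⟨z.1, ⟨1, ?_⟩⟩, (hker _).2 z.2⟩
        left_inv := fun g => rfl
        right_inv := fun z => rfl }
    rw [map_one]
    exact ((QuotientGroup.eq_one_iff _).2 z.2).symm
  obtain ⟨e2⟩ := equiv_two hcard
  refine CfsgLib.Schur.hasSchurMultiplier_of_witness π hstem e2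
    fun Γ _ _ σ hσ => ?_
  rw [Nat.card_congr Multiplicative.toAdd, Nat.card_zmod]
  exact card_ker_le hF σ hσ

end CfsgLib.Known.F4TwoMult
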