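import Cfsg.Agent.Lib.Known.F4TwoMult.Data

/-!
The same product, written with recursors for the kernel (owner: helper6).
-/

set_option autoImplicit false

namespace CfsgLib.Known.F4TwoMult

open Packed

/-- Reduction of the first lanes. -/
noncomputable def redK (n : ℕ) : ℕ → ℕ :=
  Nat.rec (motive := fun _ => ℕ → ℕ) (fun _ => 0)
    (fun _ ih r => Nat.add (Nat.mod (Nat.mod r 256) 3) (Nat.mul 256 (ih (Nat.div r 256)))) n

/-- A combination of rows. -/
noncomputable def rowMulK (B : List ℕ) : ℕ → ℕ :=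
  List.rec (motive := fun _ => ℕ → ℕ) (fun _ => 0)
    (fun b _ ih a => Nat.add (Nat.mul (Nat.mod a 256) b) (ih (Nat.div a 256))) B

/-- The product. -/
noncomputable def pmK (n : ℕ) (A B : List ℕ) : List ℕ :=
  List.rec (motive := fun _ => List ℕ) [] (fun a _ ih => redK n (rowMulK B a) :: ih) A

theorem redK_eq : ∀ n r, redK n r = red n r
  | 0, _ => rfl
  | n + 1, r => by
    show Nat.add (Nat.mod (Nat.mod r 256) 3) (Nat.mul 256 (redK n (Nat.div r 256))) = _
    rw [redK_eq n]
    rfl

theorem rowMulK_eq : ∀ B a, rowMulK B a = rowMul a B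
  | [], _ => rfl
  | b :: B, a => by
    show Nat.add (Nat.mul (Nat.mod a 256) b) (rowMulK B (Nat.div a 256)) = _
    rw [rowMulK_eq B]
    rfl

theorem pmK_eq (n : ℕ) (A B : List ℕ) : pmK n A B = pm n A B := by
  induction A with
  | nil => rfl
  | cons a A ih =>
    show redK n (rowMulK B a) :: pmK n A B = _
    rw [ih, redK_eq, rowMulK_eq]
    rfl

end CfsgLib.Known.F4TwoMult
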