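import Cfsg.Agent.Lib.Known.F4TwoMult.RelDefs

/-! Relation checks (owner: helper6). -/

set_option autoImplicit false
set_option maxRecDepth 100000
set_option maxHeartbeats 0

namespace CfsgLib.Known.F4TwoMult

theorem row17 : rowChk 17 = true := by decide +kernel
theorem row18 : rowChk 18 = true := by decide +kernel
theorem row19 : rowChk 19 = true := by decide +kernel
theorem row20 : rowChk 20 = true := by decide +kernel
theorem row21 : rowChk 21 = true := by decide +kernel

end CfsgLib.Known.F4TwoMult
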