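import Cfsg.Agent.Lib.Known.F4TwoMult.RelDefs

/-! Relation checks (owner: helper6). -/

set_option autoImplicit false
set_option maxRecDepth 100000
set_option maxHeartbeats 0

namespace CfsgLib.Known.F4TwoMult

theorem row22 : rowChk 22 = true := by decide +kernel
theorem row23 : rowChk 23 = true := by decide +kernel
theorem row24 : rowChk 24 = true := by decide +kernel
theorem row25 : rowChk 25 = true := by decide +kernel
theorem row26 : rowChk 26 = true := by decide +kernel
theorem row27 : rowChk 27 = true := by decide +kernel

end CfsgLib.Known.F4TwoMult
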