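import Cfsg.Agent.Lib.Known.F4TwoMult.RelDefs

/-! Relation checks (owner: helper6). -/

set_option autoImplicit false
set_option maxRecDepth 100000
set_option maxHeartbeats 0

namespace CfsgLib.Known.F4TwoMult

theorem row28 : rowChk 28 = true := by decide +kernel
theorem row29 : rowChk 29 = true := by decide +kernel
theorem row30 : rowChk 30 = true := by decide +kernel
theorem row31 : rowChk 31 = true := by decide +kernel
theorem row32 : rowChk 32 = true := by decide +kernel
theorem row33 : rowChk 33 = true := by decide +kernel
theorem row34 : rowChk 34 = true := by decide +kernel
theorem row35 : rowChk 35 = true := by decide +kernel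

end CfsgLib.Known.F4TwoMult
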