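import Cfsg.Agent.Lib.Known.F4TwoMult.RelDefs

/-! Relation checks (owner: helper6). -/

set_option autoImplicit false
set_option maxRecDepth 100000
set_option maxHeartbeats 0

namespace CfsgLib.Known.F4TwoMult

theorem row36 : rowChk 36 = true := by decide +kernel
theorem row37 : rowChk 37 = true := by decide +kernel
theorem row38 : rowChk 38 = true := by decide +kernel
theorem row39 : rowChk 39 = true := by decide +kernel
theorem row40 : rowChk 40 = true := by decide +kernel
theorem row41 : rowChk 41 = true := by decide +kernel
theorem row42 : rowChk 42 = true := by decide +kernel
theorem row43 : rowChk 43 = true := by decide +kernel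
theorem row44 : rowChk 44 = true := by decide +kernel
theorem row45 : rowChk 45 = true := by decide +kernel
theorem row46 : rowChk 46 = true := by decide +kernel
theorem row47 : rowChk 47 = true := by decide +kernel

end CfsgLib.Known.F4TwoMult
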