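import Cfsg.Agent.Lib.Known.F4TwoMult.RelCheck0
import Cfsg.Agent.Lib.Known.F4TwoMult.RelCheck1
import Cfsg.Agent.Lib.Known.F4TwoMult.RelCheck2
import Cfsg.Agent.Lib.Known.F4TwoMult.RelCheck3
import Cfsg.Agent.Lib.Known.F4TwoMult.RelCheck4
import Cfsg.Agent.Lib.Known.F4TwoMult.RelCheck5
import Cfsg.Agent.Lib.Known.F4TwoMult.RelCheck6
import Cfsg.Agent.Lib.Known.F4TwoMult.RelCheck7
import Cfsg.Agent.Lib.Known.F4TwoMult.RelCheck8
import Mathlib.Tactic.IntervalCases

/-! The relation checks together (owner: helper6). -/

set_option autoImplicit false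
set_option maxRecDepth 100000

namespace CfsgLib.Known.F4TwoMult

open Packed

theorem gM_ok : ((List.range 48).all fun r => okMat 52 (gM r)) = true := by decide +kernel

theorem rows {r : ℕ} (h : r < 48) : rowChk r = true := by
  interval_cases r
  exacts [row0, row1, row2, row3, row4, row5, row6, row7, row8, row9, row10, row11, row12, row13, row14, row15, row16, row17, row18, row19, row20, row21, row22, row23, row24, row25, row26, row27, row28, row29, row30, row31, row32, row33, row34, row35, row36, row37, row38, row39, row40, row41, row42, row43, row44, row45, row46, row47]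

end CfsgLib.Known.F4TwoMult
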