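import Cfsg.Agent.Lib.Known.F4TwoMult.Fast
import Cfsg.Agent.Lib.Known.F4TwoMult.UpperChecks

/-!
Relations between the 52 dimensional root elements, up to sign (owner: helper6).
-/

set_option autoImplicit false

namespace CfsgLib.Known.F4TwoMult

open Packed

/-- The matrix of a root element. -/
def gM (r : ℕ) : List ℕ := rootData.getD r []

/-- The product of the matrices of some roots. -/
noncomputable def wordM (l : List ℕ) : List ℕ :=
  List.rec (motive := fun _ => List ℕ) (idm 52) (fun e l ih => List.rec (motive := fun _ => List ℕ) (gM e) (fun _ _ _ => pmK 52 (gM e) ih) l) l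

/-- The relation of a pair. -/
noncomputable def pairChk (r s : ℕ) : Bool :=
  match oddTerms r s with
  | [] => sgEq 52 (pmK 52 (gM s) (gM r)) (pmK 52 (gM r) (gM s))
  | l => sgEq 52 (pmK 52 (gM s) (gM r)) (pmK 52 (pmK 52 (gM r) (gM s)) (wordM l))

/-- All relations starting at one root. -/
noncomputable def rowChk (r : ℕ) : Bool :=
  sgEq 52 (pmK 52 (gM r) (gM r)) (idm 52) &&
    (List.range 48).all fun s => !Nat.blt r s || Nat.beq s (Cfsg.Lie.chevF4.neg r) || pairChk r s

end CfsgLib.Known.F4TwoMult
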